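import Cfsg.Agent.Lib.Coprime.Action
import Cfsg.Agent.Lib.PGroup.Frattini
import Mathlib.GroupTheory.Frattini
import Mathlib.GroupTheory.OrderOfElement

/-!
# A single coprime automorphism

For `φ : MulAut G` of order prime to the subgroups it is applied to:

* `fixSub φ`, invariant subgroups `Inv φ H`, `mov φ H = [H, φ]`;
* `exists_fixed_mul`: an invariant coset contains a fixed point;
* `mov_le_of_invariant_pgroups`: `[U, φ] ≤ H` when this holds for the invariant `r`-subgroups of `U`;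
* `exists_maximal_invariant_sylow`: invariant `r`-subgroups lie in invariant Sylow subgroups.
-/

set_option autoImplicit false
set_option linter.style.haveILetI false

namespace Cfsg.Agent.CoprimeInvolution

open Subgroup
open scoped Pointwise

universe u

variable {G : Type u} [Group G]

/-- The fixed points of an automorphism. -/
def fixSub (φ : MulAut G) : Subgroup G where
  carrier := {x | φ x = x}
  one_mem' := map_one φ
  mul_mem' := fun {x y} (hx : φ x = x) (hy : φ y = y) => show φ (x * y) = x * y by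
    rw [map_mul, hx, hy]
  inv_mem' := fun {x} (hx : φ x = x) => show φ x⁻¹ = x⁻¹ by rw [map_inv, hx]

theorem mem_fixSub {φ : MulAut G} {x : G} : x ∈ fixSub φ ↔ φ x = x := Iff.rfl

/-- `H` is invariant under `φ`. -/
def Inv (φ : MulAut G) (H : Subgroup G) : Prop := ∀ x ∈ H, φ x ∈ H

/-- `[H, φ]`. -/
def mov (φ : MulAut G) (H : Subgroup G) : Subgroup G :=
  closure ((fun h => h⁻¹ * φ h) '' (H : Set G))

variable {φ : MulAut G}

theorem inv_top : Inv φ ⊤ := fun _ _ => mem_top _

theorem Inv.inf {H K : Subgroup G} (hH : Inv φ H) (hK : Inv φ K) : Inv φ (H ⊓ K) :=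
  fun x hx => ⟨hH x hx.1, hK x hx.2⟩

theorem Inv.pow {H : Subgroup G} (hH : Inv φ H) : ∀ (n : ℕ), ∀ x ∈ H, (φ ^ n) x ∈ H := by
  intro n
  induction n with
  | zero => intro x hx; simpa using hx
  | succ n ih => intro x hx; rw [pow_succ, MulAut.mul_apply]; exact ih _ (hH x hx)

theorem inv_centralizer_of_fixed {S : Set G} (hS : ∀ s ∈ S, φ s = s) :
    Inv φ (centralizer S) := by
  intro x hx s hs
  have := congrArg φ (mem_centralizer_iff.1 hx s hs)
  rwa [map_mul, map_mul, hS s hs] at this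

theorem mem_mov {H : Subgroup G} {h : G} (hh : h ∈ H) : h⁻¹ * φ h ∈ mov φ H :=
  subset_closure ⟨h, hh, rfl⟩

theorem mov_mono {H K : Subgroup G} (hle : H ≤ K) : mov φ H ≤ mov φ K :=
  closure_mono (Set.image_mono hle)

theorem mov_le {H : Subgroup G} (hH : Inv φ H) : mov φ H ≤ H := by
  rw [mov, closure_le]
  rintro _ ⟨h, hh, rfl⟩
  exact mul_mem (inv_mem hh) (hH h hh)

theorem inv_mov {H : Subgroup G} (hH : Inv φ H) : Inv φ (mov φ H) := by
  intro x hx
  have hle : mov φ H ≤ (mov φ H).comap φ.toMonoidHom := by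
    rw [mov, closure_le]
    rintro _ ⟨h, hh, rfl⟩
    show φ (h⁻¹ * φ h) ∈ mov φ H
    rw [map_mul, map_inv]
    exact mem_mov (hH h hh)
  exact hle hx

theorem conj_mem_mov {H : Subgroup G} {x m : G} (hx : x ∈ H) (hm : m ∈ mov φ H) :
    x * m * x⁻¹ ∈ mov φ H := by
  have hle : mov φ H ≤ (mov φ H).comap (MulAut.conj x).toMonoidHom := by
    rw [mov, closure_le]
    rintro _ ⟨h, hh, rfl⟩
    show x * (h⁻¹ * φ h) * x⁻¹ ∈ mov φ H
    have e : x * (h⁻¹ * φ h) * x⁻¹ =
        ((h * x⁻¹)⁻¹ * φ (h * x⁻¹)) * ((x⁻¹)⁻¹ * φ x⁻¹)⁻¹ := by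
      simp only [map_mul, map_inv]
      group
    rw [e]
    exact mul_mem (mem_mov (mul_mem hh (inv_mem hx))) (inv_mem (mem_mov (inv_mem hx)))
  exact hle hm

theorem le_normalizer_mov (H : Subgroup G) : H ≤ normalizer (mov φ H : Set G) := by
  intro x hx
  rw [mem_normalizer_iff]
  refine fun m => ⟨conj_mem_mov hx, fun h => ?_⟩
  have := conj_mem_mov (inv_mem hx) h
  simpa [mul_assoc] using this

theorem mov_eq_bot_iff {H : Subgroup G} : mov φ H = ⊥ ↔ ∀ h ∈ H, φ h = h := by
  rw [mov, closure_eq_bot_iff]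
  simp only [Set.subset_singleton_iff, Set.forall_mem_image, inv_mul_eq_one, SetLike.mem_coe]
  exact ⟨fun h x hx => (h hx).symm, fun h x hx => (h x hx).symm⟩

theorem conj_mov_of_fixed {H : Subgroup G} {c : G} (hc : φ c = c) :
    (mov φ H).map (MulAut.conj c).toMonoidHom = mov φ (H.map (MulAut.conj c).toMonoidHom) := by
  rw [mov, MonoidHom.map_closure, mov, coe_map, ← Set.image_comp, ← Set.image_comp]
  congr 1
  refine Set.image_congr fun h _ => ?_
  show c * (h⁻¹ * φ h) * c⁻¹ = (c * h * c⁻¹)⁻¹ * φ (c * h * c⁻¹)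
  simp only [map_mul, map_inv, hc]
  group

/-- The action of `⟨φ⟩` on `G`. -/
abbrev powHom (φ : MulAut G) : zpowers φ →* MulAut G := (zpowers φ).subtype

theorem forall_zpowers [Finite G] (φ : MulAut G) {P : MulAut G → Prop} (h : ∀ n : ℕ, P (φ ^ n))
    (a : zpowers φ) : P a := by
  obtain ⟨n, hn⟩ := Submonoid.mem_powers_iff _ _ |>.1 (mem_powers_iff_mem_zpowers.2 a.2)
  exact hn ▸ h n

/-- An invariant coset contains a fixed point. -/
theorem exists_fixed_mul [Finite G] {N : Subgroup G} (hN : Inv φ N)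
    (hcop : (orderOf φ).Coprime (Nat.card N)) {k : G} (hk : k⁻¹ * φ k ∈ N) :
    ∃ n ∈ N, φ (k * n) = k * n := by
  have hsol : Group.IsSolvable (zpowers φ) := Group.isSolvable_of_comm fun a b =>
    (IsCyclic.isMulCommutative (α := zpowers φ)).is_comm.comm a b
  obtain ⟨n, hn, hfix⟩ := Coprime.exists_fixed_mul_mem_hom (powHom φ) (N := N) (k := k)
    (fun a => forall_zpowers φ (P := fun ψ => ∀ x ∈ N, ψ x ∈ N) hN.pow a)
    (by rwa [Nat.card_zpowers]) (Or.inl hsol)
    (fun a => forall_zpowers φ (P := fun ψ => k⁻¹ * ψ k ∈ N) (fun n => by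
      induction n with
      | zero => simp
      | succ n ih =>
        rw [pow_succ', MulAut.mul_apply]
        have := mul_mem hk (hN _ ih)
        rwa [map_mul, map_inv, mul_assoc, mul_inv_cancel_left] at this) a)
  exact ⟨n, hn, hfix ⟨φ, mem_zpowers φ⟩⟩

section Coprime

variable [Finite G] (hcop : (orderOf φ).Coprime (Nat.card G))
include hcop

theorem coprime_sub (H : Subgroup G) : (orderOf φ).Coprime (Nat.card H) :=
  hcop.coprime_dvd_right (card_subgroup_dvd_card H)

/-- An element moved by a fixed translation is fixed. -/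
theorem fixed_of_apply_eq_mul {g c : G} (hc : φ c = c) (h : φ g = c * g) : φ g = g := by
  have hn : ∀ n : ℕ, (φ ^ n) g = c ^ n * g := by
    intro n
    induction n with
    | zero => simp
    | succ n ih =>
      rw [pow_succ', MulAut.mul_apply, ih, map_mul, map_pow, hc, h, pow_succ, mul_assoc]
  have h1 := hn (orderOf φ)
  rw [pow_orderOf_eq_one, MulAut.one_apply, eq_comm, mul_eq_right] at h1
  have hc1 : c = 1 := by
    rw [← orderOf_eq_one_iff, ← Nat.dvd_one, ← hcop.gcd_eq_one]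
    exact Nat.dvd_gcd (orderOf_dvd_of_pow_eq_one h1) (orderOf_dvd_natCard c)
  rw [h, hc1, one_mul]

/-- A coset decomposition: `H = C_H(φ)[H, φ]`. -/
theorem exists_fixed_decomp {H : Subgroup G} (hH : Inv φ H) {h : G} (hh : h ∈ H) :
    ∃ k ∈ H, φ k = k ∧ ∃ m ∈ mov φ H, h = k * m := by
  obtain ⟨n, hn, hfix⟩ := exists_fixed_mul (inv_mov hH) (coprime_sub hcop _) (mem_mov hh)
  exact ⟨h * n, mul_mem hh (mov_le hH hn), hfix, n⁻¹, inv_mem hn, (mul_inv_cancel_right h n).symm⟩

theorem mov_mem_of_mem {H : Subgroup G} (hH : Inv φ H) {h : G} (hh : h⁻¹ * φ h ∈ H) :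
    h⁻¹ * φ h ∈ mov φ H := by
  obtain ⟨n, hn, hfix⟩ := exists_fixed_mul hH (coprime_sub hcop _) hh
  have e : h⁻¹ * φ h = (n⁻¹)⁻¹ * φ n⁻¹ := by
    rw [map_mul] at hfix
    rw [inv_inv, map_inv]
    calc h⁻¹ * φ h = h⁻¹ * (φ h * φ n) * (φ n)⁻¹ := by group
      _ = n * (φ n)⁻¹ := by rw [hfix]; group
  rw [e]
  exact mem_mov (inv_mem hn)

theorem mov_mov {H : Subgroup G} (hH : Inv φ H) : mov φ (mov φ H) = mov φ H := by
  refine le_antisymm (mov_le (inv_mov hH)) ?_
  rw [mov, closure_le]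
  rintro _ ⟨h, hh, rfl⟩
  exact mov_mem_of_mem hcop (inv_mov hH) (mem_mov hh)

end Coprime

/-- The restriction of `φ` to an invariant subgroup. -/
def actOn [Finite G] {M : Subgroup G} (hM : Inv φ M) : zpowers φ →* MulAut M :=
  MonoidHom.mk'
    (fun a =>
      { toFun := fun x => ⟨(a : MulAut G) x, forall_zpowers φ (P := fun ψ => ψ (x : G) ∈ M)
          (fun n => hM.pow n x x.2) a⟩
        invFun := fun x => ⟨((a⁻¹ : zpowers φ) : MulAut G) x,
          forall_zpowers φ (P := fun ψ => ψ (x : G) ∈ M) (fun n => hM.pow n x x.2) a⁻¹⟩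
        left_inv := fun x => Subtype.ext (MulEquiv.symm_apply_apply (a : MulAut G) (x : G))
        right_inv := fun x => Subtype.ext (MulEquiv.apply_symm_apply (a : MulAut G) (x : G))
        map_mul' := fun x y => Subtype.ext (map_mul (a : MulAut G) (x : G) y) })
    fun _ _ => MulEquiv.ext fun _ => Subtype.ext rfl

/-- `φ` on `M`. -/
def resAut [Finite G] {M : Subgroup G} (hM : Inv φ M) : MulAut M :=
  actOn hM ⟨φ, mem_zpowers φ⟩

theorem coe_resAut [Finite G] {M : Subgroup G} (hM : Inv φ M) (x : M) :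
    ((resAut hM x : M) : G) = φ x := rfl

theorem coprime_resAut [Finite G] (hcop : (orderOf φ).Coprime (Nat.card G)) {M : Subgroup G}
    (hM : Inv φ M) : (orderOf (resAut hM)).Coprime (Nat.card M) := by
  refine (hcop.coprime_dvd_right (card_subgroup_dvd_card M)).coprime_dvd_left ?_
  refine (orderOf_map_dvd (actOn hM) _).trans ?_
  rw [Subgroup.orderOf_mk]

theorem map_mov_resAut [Finite G] {M : Subgroup G} (hM : Inv φ M) (H : Subgroup M) :
    (mov (resAut hM) H).map M.subtype = mov φ (H.map M.subtype) := by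
  rw [mov, MonoidHom.map_closure, mov, coe_map, ← Set.image_comp, ← Set.image_comp]
  rfl

theorem map_mov_resAut_top [Finite G] {M : Subgroup G} (hM : Inv φ M) :
    (mov (resAut hM) ⊤).map M.subtype = mov φ M := by
  rw [map_mov_resAut, ← MonoidHom.range_eq_map, M.range_subtype]

section Sylow

variable [Finite G] (hcop : (orderOf φ).Coprime (Nat.card G))
include hcop

/-- An invariant Sylow subgroup of an invariant subgroup, as a subgroup of the whole group. -/
theorem exists_inv_sylow {U : Subgroup G} (hU : Inv φ U) (r : ℕ) [Fact r.Prime] :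
    ∃ P : Sylow r U, Inv φ ((P : Subgroup U).map U.subtype) := by
  have hsol : Group.IsSolvable (zpowers φ) := Group.isSolvable_of_comm fun a b =>
    (IsCyclic.isMulCommutative (α := zpowers φ)).is_comm.comm a b
  obtain ⟨P, hP⟩ := Coprime.exists_invariant_sylow_hom (actOn hU)
    (by rw [Nat.card_zpowers]; exact coprime_sub hcop U) (Or.inl hsol) r
  exact ⟨P, fun x ⟨y, hy, hyx⟩ => ⟨_, hP ⟨φ, mem_zpowers φ⟩ y hy, by rw [← hyx]; rfl⟩⟩

theorem inv_normalizer {P : Subgroup G} (hP : Inv φ P) :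
    Inv φ (normalizer (P : Set G)) := by
  have hPe : P.map φ.toMonoidHom = P := by
    refine eq_of_le_of_card_ge ?_ (card_map_of_injective φ.injective).ge
    rintro _ ⟨x, hx, rfl⟩
    exact hP x hx
  intro x hx
  rw [mem_normalizer_iff]
  intro y
  obtain ⟨y, rfl⟩ := φ.surjective y
  have hmem : ∀ z, φ z ∈ P ↔ z ∈ P := fun z => by
    refine ⟨fun h => ?_, hP z⟩
    rw [← hPe] at h
    obtain ⟨w, hw, e⟩ := h
    exact φ.injective e ▸ hw
  rw [← map_inv, ← map_mul, ← map_mul, hmem, hmem]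
  exact mem_normalizer_iff.1 hx y

/-- Invariant `r`-subgroups lie in invariant Sylow subgroups. -/
theorem exists_inv_sylow_ge {U P : Subgroup G} (hU : Inv φ U) {r : ℕ} [Fact r.Prime]
    (hPU : P ≤ U) (hP : IsPGroup r P) (hPi : Inv φ P) :
    ∃ S : Sylow r U, P ≤ (S : Subgroup U).map U.subtype ∧
      Inv φ ((S : Subgroup U).map U.subtype) := by
  obtain ⟨P', hPP', hmax⟩ := (Set.toFinite {Q : Subgroup G | Q ≤ U ∧ IsPGroup r Q ∧ Inv φ Q}
    ).exists_le_maximal (show P ∈ _ from ⟨hPU, hP, hPi⟩)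
  obtain ⟨hP'U, hP'p, hP'i⟩ := hmax.prop
  set N := U ⊓ normalizer (P' : Set G) with hN
  have hP'N : P' ≤ N := le_inf hP'U le_normalizer
  obtain ⟨Q, hQ⟩ := exists_inv_sylow hcop (hU.inf (inv_normalizer hcop hP'i)) r (U := N)
  have hnorm : (P'.subgroupOf N).Normal :=
    normal_subgroupOf_of_le_normalizer inf_le_right
  haveI := hnorm
  have hP'Q : P'.subgroupOf N ≤ (Q : Subgroup N) :=
    IsPGroup.le_sylow_of_normal (N := P'.subgroupOf N) hP'p.comap_subtype Q
  have heq : (Q : Subgroup N).map N.subtype = P' :=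
    (hmax.eq_of_le ⟨(map_subtype_le _).trans inf_le_left, Q.2.map _, hQ⟩ (by
      exact (map_subgroupOf_eq_of_le hP'N).ge.trans (map_mono hP'Q))).symm
  obtain ⟨S, hS⟩ := (hP'p.comap_subtype : IsPGroup r (P'.subgroupOf U)).exists_le_sylow
  have hSeq : P'.subgroupOf U = (S : Subgroup U) := by
    by_contra hne
    have hlt : P'.subgroupOf U < (S : Subgroup U) := lt_of_le_of_ne hS hne
    have hSn : Group.IsNilpotent (S : Subgroup U) := S.2.isNilpotent
    obtain ⟨x, hxN, hxP⟩ := SetLike.exists_of_lt (Group.normalizerCondition_of_isNilpotent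
      ((P'.subgroupOf U).subgroupOf (S : Subgroup U)) (lt_top_iff_ne_top.2 fun h =>
        not_le_of_gt hlt (subgroupOf_eq_top.1 h)))
    have hxn : ((x : U) : G) ∈ N := by
      refine ⟨(x : U).2, mem_normalizer_iff.2 fun y => ⟨fun hy => ?_, fun hy => ?_⟩⟩
      · exact (mem_normalizer_iff.1 hxN ⟨⟨y, hP'U hy⟩, hS hy⟩).1 hy
      · have h1 := (mem_normalizer_iff''.1 hxN ⟨⟨_, hP'U hy⟩, hS hy⟩).1 hy
        have e : y = ((x : U) : G)⁻¹ * (((x : U) : G) * y * ((x : U) : G)⁻¹) * ((x : U) : G) := by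
          group
        rw [e]
        exact h1
    have hzp : IsPGroup r (zpowers (⟨_, hxn⟩ : N)) := by
      obtain ⟨k, hk⟩ := S.2 x
      refine IsPGroup.of_card (n := (Nat.card (zpowers (⟨_, hxn⟩ : N))).factorization r) ?_
      obtain ⟨i, -, hi⟩ := (Nat.dvd_prime_pow (Fact.out (p := r.Prime))).1
        (orderOf_dvd_of_pow_eq_one (show (⟨_, hxn⟩ : N) ^ r ^ k = 1 from Subtype.ext (by
          exact congrArg (fun z : (S : Subgroup U) => ((z : U) : G)) hk)))
      rw [Nat.card_zpowers, hi, (Fact.out (p := r.Prime)).factorization_pow, Finsupp.single_eq_same]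
    have hsup : IsPGroup r (zpowers (⟨_, hxn⟩ : N) ⊔ P'.subgroupOf N : Subgroup N) :=
      hzp.to_sup_of_normal_right (hP'p.comap_subtype)
    obtain ⟨R, hR⟩ := hsup.exists_le_sylow
    have hcard : Nat.card (R : Subgroup N) = Nat.card (P'.subgroupOf N) := by
      have h1 : Nat.card ((Q : Subgroup N).map N.subtype) = Nat.card (Q : Subgroup N) :=
        card_map_of_injective N.subtype_injective
      rw [R.card_eq_multiplicity, ← Q.card_eq_multiplicity, ← h1, heq,
        Coprime.card_subgroupOf hP'N]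
    have hRP : P'.subgroupOf N = (R : Subgroup N) :=
      eq_of_le_of_card_ge (le_sup_right.trans hR) hcard.le
    exact hxP ((hRP.ge (hR (mem_sup_left (mem_zpowers _))) : ((x : U) : G) ∈ P'))
  have hmap : (S : Subgroup U).map U.subtype = P' := by
    rw [← hSeq, map_subgroupOf_eq_of_le hP'U]
  exact ⟨S, hmap.symm ▸ hPP', hmap.symm ▸ hP'i⟩

/-- `[U, φ] ≤ H` as soon as `[P, φ] ≤ H` for all invariant subgroups `P` of prime power order. -/
theorem mov_le_of_invariant_pgroups {U H : Subgroup G} (hU : Inv φ U)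
    (h : ∀ r : ℕ, r.Prime → ∀ P : Subgroup G, IsPGroup r P → P ≤ U → Inv φ P → mov φ P ≤ H) :
    mov φ U ≤ H := by
  set S := {P : Subgroup G | (∃ r : ℕ, r.Prime ∧ IsPGroup r P) ∧ P ≤ U ∧ Inv φ P} with hS
  set A : Subgroup G := closure (⋃ P ∈ S, (mov φ P : Set G)) with hA
  have hAH : A ≤ H := by
    rw [hA, closure_le]
    refine Set.iUnion₂_subset fun P hP => ?_
    obtain ⟨⟨r, hr, hPr⟩, hPU, hPi⟩ := hP
    exact h r hr P hPr hPU hPi
  refine le_trans ?_ hAH
  have hAmem : ∀ P ∈ S, mov φ P ≤ A := fun P hP x hx =>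
    subset_closure (Set.mem_biUnion hP hx)
  have hAU : A ≤ U := by
    rw [hA, closure_le]
    exact Set.iUnion₂_subset fun P hP => (mov_mono hP.2.1).trans (mov_le hU)
  have hAi : Inv φ A := by
    have hle : A ≤ A.comap φ.toMonoidHom := by
      rw [hA, closure_le]
      exact Set.iUnion₂_subset fun P hP x hx => hAmem P hP (inv_mov hP.2.2 x hx)
    exact fun x hx => hle hx
  set C := U ⊓ fixSub φ with hC
  have hCA : C ≤ normalizer (A : Set G) := by
    have key : ∀ c ∈ C, ∀ a ∈ A, c * a * c⁻¹ ∈ A := by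
      intro c hc a ha
      have hle : A ≤ A.comap (MulAut.conj c).toMonoidHom := by
        rw [hA, closure_le]
        refine Set.iUnion₂_subset fun P hP x hx => ?_
        have hP' : P.map (MulAut.conj c).toMonoidHom ∈ S := by
          obtain ⟨⟨r, hr, hPr⟩, hPU, hPi⟩ := hP
          refine ⟨⟨r, hr, hPr.map _⟩, ?_, ?_⟩
          · rintro _ ⟨y, hy, rfl⟩
            exact mul_mem (mul_mem hc.1 (hPU hy)) (inv_mem hc.1)
          · rintro _ ⟨y, hy, rfl⟩
            exact ⟨φ y, hPi y hy, by simp [map_mul, map_inv, mem_fixSub.1 hc.2]⟩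
        have hx' : MulAut.conj c x ∈ (mov φ P).map (MulAut.conj c).toMonoidHom := ⟨x, hx, rfl⟩
        rw [conj_mov_of_fixed (mem_fixSub.1 hc.2)] at hx'
        exact hAmem _ hP' hx'
      exact hle ha
    intro c hc
    rw [mem_normalizer_iff]
    refine fun a => ⟨key c hc a, fun ha => ?_⟩
    have := key c⁻¹ (inv_mem hc) _ ha
    simpa [mul_assoc] using this
  have hle : ∀ r : ℕ, r.Prime → ∀ P : Subgroup G, IsPGroup r P → P ≤ U → Inv φ P →
      P ≤ C ⊔ A := by
    intro r hr P hPr hPU hPi x hx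
    obtain ⟨k, hk, hkf, m, hm, rfl⟩ := exists_fixed_decomp hcop hPi hx
    exact mul_mem (mem_sup_left ⟨hPU hk, hkf⟩)
      (mem_sup_right (hAmem P ⟨⟨r, hr, hPr⟩, hPU, hPi⟩ hm))
  have htop : C ⊔ A = U := by
    refine eq_of_le_of_card_ge (sup_le inf_le_left hAU) (Nat.le_of_dvd Nat.card_pos ?_)
    refine (Nat.dvd_iff_prime_pow_dvd_dvd _ _).2 fun p k hp hdvd => ?_
    have := Fact.mk hp
    obtain ⟨P, hP⟩ := exists_inv_sylow hcop hU p
    have h1 := card_dvd_of_le (hle p hp _ (P.2.map _) (map_subtype_le _) hP)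
    rw [card_map_of_injective U.subtype_injective, P.card_eq_multiplicity] at h1
    refine (pow_dvd_pow p ?_).trans h1
    exact (hp.pow_dvd_iff_le_factorization Nat.card_pos.ne').1 hdvd
  rw [mov, closure_le]
  rintro _ ⟨u, hu, rfl⟩
  rw [← htop] at hu
  obtain ⟨c, hc, a, ha, rfl⟩ := (Coprime.mem_sup_iff_of_le_normalizer hCA).1 hu
  show (c * a)⁻¹ * φ (c * a) ∈ A
  rw [map_mul, mem_fixSub.1 hc.2, mul_inv_rev, mul_assoc, inv_mul_cancel_left]
  exact mul_mem (inv_mem ha) (hAi a ha)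

end Sylow

end Cfsg.Agent.CoprimeInvolution
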