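import Cfsg.Agent.Lib.CoprimeInvolution.Basic

/-!
# An involution whose centraliser is fixed by a coprime automorphism

`Hyp φ t`: `t` is an involution and `φ` fixes `C(t)` elementwise.

* `pgroup_le_fix`: every `2`-group through `t` is fixed elementwise;
* `commute_mul_of_odd`: if `t * b` has odd order for all conjugates `b = g⁻¹ j g` of fixed
  conjugates `j` of `t`, all products of two fixed conjugates of `t` centralise `g⁻¹ φ g`;
* `mem_normalizer_of_invariant_pgroup`, `commute_mul_of_mem_mov`: the action of `t` on an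
  invariant subgroup `U = [U, φ]` of odd order.
-/

set_option autoImplicit false
set_option linter.style.haveILetI false

namespace Cfsg.Agent.CoprimeInvolution

open Subgroup
open scoped Pointwise commutatorElement

universe u

variable {G : Type u} [Group G]

/-- `t` is an involution whose centraliser is fixed elementwise by `φ`. -/
structure Hyp (φ : MulAut G) (t : G) : Prop where
  sq : t * t = 1
  ne : t ≠ 1
  cent : ∀ x, Commute x t → φ x = x

variable {φ : MulAut G} {t : G}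

theorem Hyp.inv_eq (h : Hyp φ t) : t⁻¹ = t := inv_eq_of_mul_eq_one_right h.sq

theorem Hyp.fixed (h : Hyp φ t) : φ t = t := h.cent t (Commute.refl t)

theorem Hyp.orderOf_eq (h : Hyp φ t) : orderOf t = 2 :=
  orderOf_eq_prime (by rw [pow_two]; exact h.sq) h.ne

theorem Hyp.conj (h : Hyp φ t) {k : G} (hk : φ k = k) : Hyp φ (k⁻¹ * t * k) where
  sq := by
    calc k⁻¹ * t * k * (k⁻¹ * t * k) = k⁻¹ * (t * t) * k := by group
      _ = 1 := by rw [h.sq]; group
  ne e := h.ne (by simpa [mul_assoc, inv_mul_eq_one, eq_comm] using e)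
  cent x hx := by
    have h1 : φ (k * x * k⁻¹) = k * x * k⁻¹ := h.cent _ (by
      show k * x * k⁻¹ * t = t * (k * x * k⁻¹)
      calc k * x * k⁻¹ * t = k * (x * (k⁻¹ * t * k)) * k⁻¹ := by group
        _ = k * (k⁻¹ * t * k * x) * k⁻¹ := by rw [hx.eq]
        _ = t * (k * x * k⁻¹) := by group)
    rw [map_mul, map_mul, map_inv, hk] at h1
    simpa using h1

/-- The subgroup of fixed points that stay fixed after conjugation by `g`. -/
def Dsub (φ : MulAut G) (g : G) : Subgroup G :=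
  fixSub φ ⊓ (fixSub φ).comap (MulAut.conj g).toMonoidHom

theorem mem_Dsub {g d : G} : d ∈ Dsub φ g ↔ φ d = d ∧ φ (g * d * g⁻¹) = g * d * g⁻¹ := Iff.rfl

theorem commute_of_mem_Dsub {g d : G} (hd : d ∈ Dsub φ g) : Commute d (g⁻¹ * φ g) := by
  obtain ⟨h1, h2⟩ := mem_Dsub.1 hd
  rw [map_mul, map_mul, map_inv, h1] at h2
  show d * (g⁻¹ * φ g) = g⁻¹ * φ g * d
  calc d * (g⁻¹ * φ g) = g⁻¹ * (g * d * g⁻¹) * φ g := by group
    _ = g⁻¹ * (φ g * d * (φ g)⁻¹) * φ g := by rw [h2]
    _ = g⁻¹ * φ g * d := by group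

variable [Finite G]

theorem orderOf_conj_coprime (h : Hyp φ t) {N : Subgroup G} (hN : Odd (Nat.card N)) :
    (orderOf (MulAut.conj t)).Coprime (Nat.card N) := by
  have h2 : Nat.Coprime 2 (Nat.card N) := Nat.coprime_two_left.2 hN
  refine h2.coprime_dvd_left ?_
  rw [← h.orderOf_eq]
  exact orderOf_map_dvd _ _

section Coprime

variable (hcop : (orderOf φ).Coprime (Nat.card G))
include hcop

/-- A conjugate of `t` is fixed only if the conjugating element is. -/
theorem Hyp.eq_of_conj_fixed (h : Hyp φ t) {g : G} (hg : φ (g⁻¹ * t * g) = g⁻¹ * t * g) :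
    φ g = g := by
  rw [map_mul, map_mul, map_inv, h.fixed] at hg
  refine fixed_of_apply_eq_mul hcop (c := φ g * g⁻¹) (h.cent _ ?_) (by group)
  show φ g * g⁻¹ * t = t * (φ g * g⁻¹)
  calc φ g * g⁻¹ * t = φ g * (g⁻¹ * t * g) * g⁻¹ := by group
    _ = φ g * ((φ g)⁻¹ * t * φ g) * g⁻¹ := by rw [hg]
    _ = t * (φ g * g⁻¹) := by group

/-- A `2`-group containing `t` consists of fixed points. -/
theorem Hyp.pgroup_le_fix (h : Hyp φ t) {R : Subgroup G} (hR : IsPGroup 2 R) (htR : t ∈ R) :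
    R ≤ fixSub φ := by
  by_contra hne
  haveI : Fact (Nat.Prime 2) := ⟨Nat.prime_two⟩
  have hRn : Group.IsNilpotent R := hR.isNilpotent
  obtain ⟨x, hxN, hxF⟩ := SetLike.exists_of_lt (Group.normalizerCondition_of_isNilpotent
    ((fixSub φ).subgroupOf R) (lt_top_iff_ne_top.2 fun e => hne (subgroupOf_eq_top.1 e)))
  have h1 : (⟨t, htR⟩ : R) ∈ (fixSub φ).subgroupOf R := h.fixed
  have h2 : φ ((x : G) * t * (x : G)⁻¹) = (x : G) * t * (x : G)⁻¹ :=
    (mem_normalizer_iff.1 hxN _).1 h1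
  apply hxF
  show φ (x : G) = (x : G)
  have h3 := h.eq_of_conj_fixed hcop (g := (x : G)⁻¹) (by rwa [inv_inv])
  rw [map_inv, inv_inj] at h3
  exact h3

/-- An invariant subgroup containing a conjugate of `t` contains a fixed one. -/
theorem Hyp.exists_fixed_conj (h : Hyp φ t) {M : Subgroup G} (hM : Inv φ M) {g : G}
    (hg : g⁻¹ * t * g ∈ M) : ∃ k, φ k = k ∧ k⁻¹ * t * k ∈ M := by
  haveI : Fact (Nat.Prime 2) := ⟨Nat.prime_two⟩
  obtain ⟨P, hP⟩ := exists_inv_sylow hcop hM 2
  have ha : IsPGroup 2 (zpowers (⟨_, hg⟩ : M)) := by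
    refine IsPGroup.of_card (n := 1) ?_
    rw [Nat.card_zpowers, pow_one, Subgroup.orderOf_mk,
      show g⁻¹ * t * g = MulAut.conj g⁻¹ t by simp, MulEquiv.orderOf_eq, h.orderOf_eq]
  obtain ⟨Q, hQ⟩ := ha.exists_le_sylow
  obtain ⟨m, hm⟩ := MulAction.exists_smul_eq M Q P
  set b : G := (g * (m : G)⁻¹)⁻¹ * t * (g * (m : G)⁻¹) with hb
  have hbP : b ∈ (P : Subgroup M).map M.subtype := by
    refine ⟨m * ⟨_, hg⟩ * m⁻¹, ?_, ?_⟩
    · rw [← hm, Sylow.coe_subgroup_smul]
      exact Subgroup.smul_mem_pointwise_smul _ (MulAut.conj m) _ (hQ (mem_zpowers _))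
    · show (m : G) * (g⁻¹ * t * g) * (m : G)⁻¹ = b
      rw [hb]
      group
  refine ⟨g * (m : G)⁻¹, ?_, map_subtype_le _ hbP⟩
  set k := g * (m : G)⁻¹
  have hle : ((P : Subgroup M).map M.subtype).map (MulAut.conj k).toMonoidHom ≤ fixSub φ :=
    h.pgroup_le_fix hcop ((P.2.map _).map _) ⟨b, hbP, by
      show k * b * k⁻¹ = t
      rw [hb]
      group⟩
  have h1 : φ (k * φ b * k⁻¹) = k * φ b * k⁻¹ := hle ⟨φ b, hP b hbP, rfl⟩
  have h2 : k * φ b * k⁻¹ = (φ k * k⁻¹)⁻¹ * t * (φ k * k⁻¹) := by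
    rw [hb, map_mul, map_mul, map_inv, h.fixed]
    group
  rw [h2] at h1
  exact fixed_of_apply_eq_mul hcop (c := φ k * k⁻¹) (h.eq_of_conj_fixed hcop h1) (by group)

omit hcop in
/-- In a dihedral group with odd rotation order the two involutions are exchanged by a third. -/
theorem Hyp.exists_midpoint (h : Hyp φ t) {b : G} (hb : b * b = 1) (hodd : Odd (orderOf (t * b))) :
    ∃ m : G, (∃ s, m = s⁻¹ * t * s) ∧ m * m = 1 ∧ m * t * m = b := by
  obtain ⟨i, hi⟩ := hodd
  set r := t * b with hr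
  have htr : ∀ n : ℕ, t * r ^ n * t = (r ^ n)⁻¹ := by
    intro n
    have h1 : t * r * t = r⁻¹ := by
      rw [hr, mul_inv_rev, h.inv_eq, inv_eq_of_mul_eq_one_right hb, ← mul_assoc, h.sq, one_mul]
    calc t * r ^ n * t = (t * r * t⁻¹) ^ n := by rw [conj_pow, h.inv_eq]
      _ = (r ^ n)⁻¹ := by rw [h.inv_eq, h1, inv_pow]
  have hper : r ^ (2 * (i + 1)) = r := by
    rw [show 2 * (i + 1) = orderOf r + 1 by omega, pow_succ, pow_orderOf_eq_one, one_mul]
  set k := i + 1 with hk
  have hmt : (r ^ (k * k))⁻¹ * t * r ^ (k * k) = t * r ^ k := by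
    have e : r ^ k = r ^ (k * k) * r ^ (k * k) := by
      rw [← pow_add]
      conv_lhs => rw [← hper, ← pow_mul]
      congr 1
      ring
    rw [← htr (k * k), e]
    simp only [mul_assoc]
    rw [← mul_assoc t t, h.sq, one_mul]
  have hsq : t * r ^ k * (t * r ^ k) = 1 := by
    rw [← mul_assoc, mul_assoc (t * r ^ k), ← mul_assoc, htr, inv_mul_cancel]
  refine ⟨t * r ^ k, ⟨r ^ (k * k), hmt.symm⟩, hsq, ?_⟩
  calc t * r ^ k * t * (t * r ^ k) = t * r ^ k * (t * t) * r ^ k := by group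
    _ = t * r ^ (2 * k) := by rw [h.sq, mul_one, mul_assoc, ← pow_add, two_mul]
    _ = b := by rw [hper, hr, ← mul_assoc, h.sq, one_mul]

omit hcop in
/-- In the even case the central involution times `t` is conjugate to `t`. -/
theorem Hyp.exists_central (h : Hyp φ t) {g : G}
    (heven : ¬ Odd (orderOf (t * (g⁻¹ * t * g)))) :
    ∃ w : G, w * w = 1 ∧ w ≠ 1 ∧ Commute w t ∧ Commute w (g⁻¹ * t * g) ∧
      ∃ s, t * w = s⁻¹ * t * s := by
  set b := g⁻¹ * t * g with hbdef
  have hb : b * b = 1 := by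
    calc b * b = g⁻¹ * (t * t) * g := by rw [hbdef]; group
      _ = 1 := by rw [h.sq]; group
  set r := t * b with hr
  have h1 : t * r * t = r⁻¹ := by
    rw [hr, mul_inv_rev, h.inv_eq, inv_eq_of_mul_eq_one_right hb, ← mul_assoc, h.sq, one_mul]
  have htr : ∀ n : ℕ, t * r ^ n * t = (r ^ n)⁻¹ := by
    intro n
    calc t * r ^ n * t = (t * r * t⁻¹) ^ n := by rw [conj_pow, h.inv_eq]
      _ = (r ^ n)⁻¹ := by rw [h.inv_eq, h1, inv_pow]
  obtain ⟨s, hs⟩ := Nat.not_odd_iff_even.1 heven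
  have hs0 : 0 < s := by
    have := orderOf_pos r
    omega
  set w := r ^ s with hw
  have hww : w * w = 1 := by rw [hw, ← pow_add, ← hs, pow_orderOf_eq_one]
  have hwne : w ≠ 1 := pow_ne_one_of_lt_orderOf hs0.ne' (by omega)
  have hwi : w⁻¹ = w := inv_eq_of_mul_eq_one_right hww
  have hwt : Commute w t := by
    show w * t = t * w
    calc w * t = t * (t * w * t) := by simp only [← mul_assoc, h.sq, one_mul]
      _ = t * w := by rw [hw, htr, ← hw, hwi]
  have hwb : Commute w b := by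
    rw [show b = t * r by rw [hr, ← mul_assoc, h.sq, one_mul]]
    exact hwt.mul_right ((Commute.refl r).pow_left s)
  refine ⟨w, hww, hwne, hwt, hwb, ?_⟩
  rcases Nat.even_or_odd s with ⟨u, hu⟩ | ⟨u, hu⟩
  · refine ⟨r ^ u, ?_⟩
    rw [← htr u, hw, hu, pow_add]
    simp only [mul_assoc]
    rw [← mul_assoc t t, h.sq, one_mul]
  · refine ⟨g * r ^ u, ?_⟩
    have e : (g * r ^ u)⁻¹ * t * (g * r ^ u) = (r ^ u)⁻¹ * b * r ^ u := by rw [hbdef]; group
    rw [e, ← htr u, hw, hu, show b = t * r by rw [hr, ← mul_assoc, h.sq, one_mul],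
      two_mul, pow_succ, pow_add]
    simp only [mul_assoc]
    rw [← mul_assoc t t, h.sq, one_mul, (Commute.self_pow r u).eq]

/-- **Fully odd case.** -/
theorem Hyp.commute_mul_of_odd (h : Hyp φ t) (g : G)
    (hodd : ∀ k, φ k = k → Odd (orderOf (t * ((k * g)⁻¹ * t * (k * g))))) {k l : G}
    (hk : φ k = k) (hl : φ l = l) :
    Commute ((k⁻¹ * t * k) * (l⁻¹ * t * l)) (g⁻¹ * φ g) := by
  have hmid : ∀ k, φ k = k → ∃ m : G, (∃ s, m = s⁻¹ * t * s) ∧ m * m = 1 ∧
      m * t * m = (k * g)⁻¹ * t * (k * g) ∧ φ (g * m) = g * m := by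
    intro k hk
    obtain ⟨m, hms, hmm, hmt⟩ := h.exists_midpoint (by
      calc (k * g)⁻¹ * t * (k * g) * ((k * g)⁻¹ * t * (k * g))
          = (k * g)⁻¹ * (t * t) * (k * g) := by group
        _ = 1 := by rw [h.sq]; group) (hodd k hk)
    refine ⟨m, hms, hmm, hmt, ?_⟩
    have hmi : m⁻¹ = m := inv_eq_of_mul_eq_one_right hmm
    have h1 : φ (k * g * m) = k * g * m := h.cent _ (by
      show k * g * m * t = t * (k * g * m)
      calc k * g * m * t = k * g * (m * t * m) * m := by
            simp only [mul_assoc, hmm, mul_one]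
        _ = t * (k * g * m) := by rw [hmt]; group)
    rw [mul_assoc, map_mul, hk] at h1
    exact mul_left_cancel h1
  obtain ⟨m₀, ⟨s₀, hs₀⟩, hm₀, -, he⟩ := hmid 1 (map_one φ)
  have hm₀i : m₀⁻¹ = m₀ := inv_eq_of_mul_eq_one_right hm₀
  -- every fixed conjugate of `t` is a conjugate under `Dsub φ g`
  have htrans : ∀ l, φ l = l → ∃ d ∈ Dsub φ g, l⁻¹ * t * l = d⁻¹ * t * d := by
    intro l hl
    have hk' : φ (l * (g * m₀)⁻¹) = l * (g * m₀)⁻¹ := by rw [map_mul, map_inv, hl, he]
    obtain ⟨m, -, hmm, hmt, hgm⟩ := hmid _ hk'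
    have hmi : m⁻¹ = m := inv_eq_of_mul_eq_one_right hmm
    refine ⟨m * m₀, mem_Dsub.2 ⟨?_, ?_⟩, ?_⟩
    · have e : m * m₀ = (g * m)⁻¹ * (g * m₀) := by
        rw [mul_inv_rev, hmi]; group
      rw [e, map_mul, map_inv, hgm, he]
    · have e : g * (m * m₀) * g⁻¹ = (g * m) * (g * m₀)⁻¹ := by
        rw [mul_inv_rev, hm₀i]; group
      rw [e, map_mul, map_inv, hgm, he]
    · calc l⁻¹ * t * l = (g * m₀)⁻¹ * g * (m * t * m) * g⁻¹ * (g * m₀) := by rw [hmt]; group
        _ = m₀⁻¹ * m * t * m * m₀ := by group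
        _ = (m * m₀)⁻¹ * t * (m * m₀) := by rw [mul_inv_rev, hmi]; group
  -- so all of them normalise `Dsub φ g`
  set D := Dsub φ g with hD
  have hDfix : ∀ d ∈ D, φ d = d := fun d hd => (mem_Dsub.1 hd).1
  have hm₀N : m₀ ∈ normalizer (D : Set G) := by
    have key : ∀ d ∈ D, m₀ * d * m₀⁻¹ ∈ D := by
      intro d hd
      obtain ⟨h1, h2⟩ := mem_Dsub.1 hd
      refine mem_Dsub.2 ⟨?_, ?_⟩
      · have e : m₀ * d * m₀⁻¹ = (g * m₀)⁻¹ * (g * d * g⁻¹) * (g * m₀) := by
          rw [mul_inv_rev, hm₀i]; group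
        rw [e, map_mul, map_mul, map_inv, he, h2]
      · have e : g * (m₀ * d * m₀⁻¹) * g⁻¹ = (g * m₀) * d * (g * m₀)⁻¹ := by group
        rw [e, map_mul, map_mul, map_inv, he, h1]
    rw [mem_normalizer_iff]
    refine fun d => ⟨key d, fun hd => ?_⟩
    have := key _ hd
    rw [hm₀i] at this
    simpa [mul_assoc, hm₀, ← mul_assoc m₀ m₀] using this
  have hDi : Inv φ D := fun d hd => by rwa [hDfix d hd]
  obtain ⟨k₁, hk₁, hk₁N⟩ := h.exists_fixed_conj hcop (inv_normalizer hcop hDi) (g := s₀)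
    (hs₀ ▸ hm₀N)
  obtain ⟨d₁, hd₁, e₁⟩ := htrans k₁ hk₁
  have htN : t ∈ normalizer (D : Set G) := by
    have e : t = d₁ * (k₁⁻¹ * t * k₁) * d₁⁻¹ := by rw [e₁]; group
    rw [e]
    exact mul_mem (mul_mem (le_normalizer hd₁) hk₁N) (inv_mem (le_normalizer hd₁))
  obtain ⟨d, hd, e⟩ := htrans k hk
  obtain ⟨d', hd', e'⟩ := htrans l hl
  refine commute_of_mem_Dsub (φ := φ) (g := g) ?_
  rw [e, e']
  have e2 : d⁻¹ * t * d * (d'⁻¹ * t * d') = d⁻¹ * (t * (d * d'⁻¹) * t⁻¹) * d' := by
    rw [h.inv_eq]; group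
  rw [e2]
  exact mul_mem (mul_mem (inv_mem hd)
    ((mem_normalizer_iff.1 htN _).1 (mul_mem hd (inv_mem hd')))) hd'

/-- Inside `U ⟨t⟩`, `U` of odd order, every product of two conjugates of `t` is odd. -/
theorem Hyp.commute_mul_of_odd_normal (h : Hyp φ t) {U : Subgroup G} (hU : Inv φ U)
    (hodd : Odd (Nat.card U)) (htU : t ∈ normalizer (U : Set G)) {c u : G} (hc : c ∈ U)
    (hcf : φ c = c) (hu : u ∈ U) : Commute ((c⁻¹ * t * c) * t) (u⁻¹ * φ u) := by
  have htz : zpowers t ≤ normalizer (U : Set G) := zpowers_le.2 htU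
  set M := zpowers t ⊔ U with hM
  have hMi : Inv φ M := by
    intro x hx
    obtain ⟨a, ha, b, hb, rfl⟩ := (Coprime.mem_sup_iff_of_le_normalizer htz).1 hx
    obtain ⟨n, rfl⟩ := mem_zpowers_iff.1 ha
    rw [map_mul, map_zpow, h.fixed]
    exact mul_mem (mem_sup_left (zpow_mem (mem_zpowers t) n)) (mem_sup_right (hU b hb))
  have htM : t ∈ M := mem_sup_left (mem_zpowers t)
  have hUM : U ≤ M := le_sup_right
  have hH : Hyp (resAut hMi) (⟨t, htM⟩ : M) :=
    ⟨Subtype.ext h.sq, fun e => h.ne (congrArg Subtype.val e),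
      fun x hx => Subtype.ext (h.cent x (congrArg Subtype.val hx))⟩
  haveI hn : (U.subgroupOf M).Normal :=
    normal_subgroupOf_of_le_normalizer (sup_le htz le_normalizer)
  have hgen : ∀ x : M, ∃ n : ℤ,
      QuotientGroup.mk' (U.subgroupOf M) x = QuotientGroup.mk' (U.subgroupOf M) ⟨t, htM⟩ ^ n := by
    intro x
    obtain ⟨a, ha, b, hb, hab⟩ := (Coprime.mem_sup_iff_of_le_normalizer htz).1 x.2
    obtain ⟨n, rfl⟩ := mem_zpowers_iff.1 ha
    refine ⟨n, ?_⟩
    have hx : x = ⟨t, htM⟩ ^ n * ⟨b, hUM hb⟩ := Subtype.ext (by push_cast; exact hab.symm)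
    rw [hx, map_mul, map_zpow, mul_eq_left]
    exact (QuotientGroup.eq_one_iff _).2 hb
  have key : ∀ x : M, Odd (orderOf ((⟨t, htM⟩ : M) * (x⁻¹ * ⟨t, htM⟩ * x))) := by
    intro x
    have hmem : (⟨t, htM⟩ : M) * (x⁻¹ * ⟨t, htM⟩ * x) ∈ U.subgroupOf M := by
      rw [← QuotientGroup.eq_one_iff, ← QuotientGroup.mk'_apply, map_mul, map_mul, map_mul, map_inv]
      obtain ⟨n, hn⟩ := hgen x
      rw [hn, (Commute.zpow_self _ n).inv_left.eq, inv_mul_cancel_right, ← map_mul]
      exact (congrArg _ hH.sq).trans (map_one _)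
    refine Odd.of_dvd_nat hodd ?_
    rw [← Coprime.card_subgroupOf hUM]
    exact Subgroup.orderOf_dvd_natCard _ hmem
  have h1 := hH.commute_mul_of_odd (coprime_resAut hcop hMi) ⟨u, hUM hu⟩ (fun k _ => key _)
    (k := ⟨c, hUM hc⟩) (l := 1) (Subtype.ext hcf) (map_one _)
  have h2 := congrArg Subtype.val h1.eq
  simp only [inv_one, one_mul, mul_one, Subgroup.coe_mul, Subgroup.coe_inv, coe_resAut] at h2
  exact h2

section Odd

variable {U : Subgroup G} (hU : Inv φ U) (hodd : Odd (Nat.card U)) (hUU : mov φ U = U)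
include hU hodd hUU

/-- Invariant Sylow subgroups of `U = [U, φ]` are normalised by `t`. -/
theorem Hyp.mem_normalizer_sylow (h : Hyp φ t) (htU : t ∈ normalizer (U : Set G)) {r : ℕ}
    [Fact r.Prime] (P : Sylow r U) (hP : Inv φ ((P : Subgroup U).map U.subtype)) :
    t ∈ normalizer (((P : Subgroup U).map U.subtype : Subgroup G) : Set G) := by
  set R := (P : Subgroup U).map U.subtype with hR
  have hle : MulAut.conj t • R ≤ U := by
    rw [← Coprime.conj_smul_eq_self_of_mem htU]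
    exact pointwise_smul_le_pointwise_smul_iff.2 (map_subtype_le _)
  let Q : Sylow r U := Sylow.ofCard ((MulAut.conj t • R).subgroupOf U) (by
    rw [Coprime.card_subgroupOf hle, Coprime.card_conj_smul, hR,
      card_map_of_injective U.subtype_injective]
    exact P.card_eq_multiplicity)
  have hsol : Group.IsSolvable (zpowers φ) := Group.isSolvable_of_comm fun a b =>
    (IsCyclic.isMulCommutative (α := zpowers φ)).is_comm.comm a b
  obtain ⟨c, hc, hcQ⟩ := Coprime.exists_fixed_smul_sylow_hom (actOn hU)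
    (by rw [Nat.card_zpowers]; exact coprime_sub hcop U) (Or.inl hsol) P Q
    (fun a x hx => by
      obtain ⟨y, hy, e⟩ : (actOn hU a x : G) ∈ R :=
        forall_zpowers φ (P := fun ψ => ψ (x : G) ∈ R) (fun n => hP.pow n x ⟨x, hx, rfl⟩) a
      exact Subtype.ext e ▸ hy)
    (fun a x hx => by
      show ((a : MulAut G) x : G) ∈ MulAut.conj t • R
      refine forall_zpowers φ (P := fun ψ => ψ (x : G) ∈ MulAut.conj t • R) (fun n => ?_) a
      refine Inv.pow (φ := φ) (H := MulAut.conj t • R) (fun y hy => ?_) n _ hx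
      rw [Coprime.mem_conj_smul_iff] at hy ⊢
      have := hP _ hy
      rwa [map_mul, map_mul, map_inv, h.fixed] at this)
  have hcf : φ (c : G) = c := congrArg Subtype.val (hc ⟨φ, mem_zpowers φ⟩)
  have hcR : MulAut.conj (c : G) • R = MulAut.conj t • R := by
    have h1 := congrArg (fun T : Sylow r U => (T : Subgroup U).map U.subtype) hcQ
    rw [Sylow.coe_subgroup_smul, Coprime.map_conj_smul] at h1
    exact h1.trans (map_subgroupOf_eq_of_le hle)
  set z := (c : G)⁻¹ * t * c * t with hz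
  have hzc : ∀ x ∈ U, Commute z x := by
    intro x hx
    have hle : U ≤ centralizer {z} := by
      conv_lhs => rw [← hUU]
      rw [mov, closure_le]
      rintro _ ⟨y, hy, rfl⟩
      exact mem_centralizer_singleton_iff.2
        (h.commute_mul_of_odd_normal hcop hU hodd htU c.2 hcf hy).eq.symm
    exact (mem_centralizer_singleton_iff.1 (hle hx)).symm
  have hzN : z ∈ normalizer (R : Set G) := by
    rw [mem_normalizer_iff]
    intro x
    constructor
    · intro hx
      rwa [(hzc x (map_subtype_le _ hx)).eq, mul_inv_cancel_right]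
    · intro hx
      have h1 := (hzc _ (map_subtype_le _ hx)).eq
      have h2 : z * x * z⁻¹ = x := by
        have h3 : z * (z * x * z⁻¹) = z * (x : G) := by rw [h1]; group
        exact mul_left_cancel h3
      rwa [h2] at hx
  have htct : t * c * t = c * z := by rw [hz]; group
  have h2 : MulAut.conj ((c : G) * c * z) • R = R := by
    have e : (c : G) * c * z = t * c * t * c := by
      rw [htct, mul_assoc (c : G) z, (hzc _ c.2).eq]; group
    rw [e, ← Coprime.conj_smul_smul (t * c * t) c, hcR, Coprime.conj_smul_smul, mul_assoc _ t t,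
      h.sq, mul_one, ← Coprime.conj_smul_smul, hcR, Coprime.conj_smul_smul, h.sq, map_one, one_smul]
  have h3 : (c : G) * c ∈ normalizer (R : Set G) := by
    have := mul_mem (Coprime.mem_normalizer_of_conj_smul_eq h2) (inv_mem hzN)
    rwa [mul_inv_cancel_right] at this
  have h4 : (c : G) ∈ normalizer (R : Set G) := by
    obtain ⟨i, hi⟩ := hodd
    have h5 : (c : G) = ((c : G) * c) ^ (i + 1) := by
      rw [← pow_two, ← pow_mul, show 2 * (i + 1) = Nat.card U + 1 by omega, pow_succ]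
      rw [show (c : G) ^ Nat.card U = 1 from congrArg Subtype.val (pow_card_eq_one' (x := c)),
        one_mul]
    rw [h5]
    exact pow_mem h3 _
  rw [Coprime.conj_smul_eq_self_of_mem h4] at hcR
  exact Coprime.mem_normalizer_of_conj_smul_eq hcR.symm

omit hU hUU in
/-- On an invariant `r`-group normalised by `t`, moved elements are inverted modulo `Φ`. -/
theorem Hyp.mul_conj_mem_frattini (h : Hyp φ t) {T : Subgroup G} (hT : Inv φ T) (hTU : T ≤ U)
    {r : ℕ} [Fact r.Prime] (hTp : IsPGroup r T) (htT : t ∈ normalizer (T : Set G)) {p : G}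
    (hp : p ∈ T) :
    (p⁻¹ * φ p) * (t * (p⁻¹ * φ p) * t) ∈ (frattini T).map T.subtype := by
  set F := (frattini T).map T.subtype with hF
  have hconj : ∀ x ∈ T, t * x * t ∈ T := fun x hx => by
    have := (mem_normalizer_iff.1 htT x).1 hx
    rwa [h.inv_eq] at this
  set π := QuotientGroup.mk' (frattini T) with hπ
  have hab : ∀ a b : T, π a * π b = π b * π a := by
    intro a b
    rw [← map_mul, ← map_mul, hπ, QuotientGroup.mk'_eq_mk']
    refine ⟨⁅b⁻¹, a⁻¹⁆, PGroup.commutator_le_frattini hTp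
      (commutator_mem_commutator (mem_top _) (mem_top _)), ?_⟩
    rw [commutatorElement_def]
    group
  have hFodd : Odd (Nat.card F) :=
    Odd.of_dvd_nat hodd (card_dvd_of_le ((map_subtype_le _).trans hTU))
  set y := p * (t * p * t) with hy
  have hyT : y ∈ T := mul_mem hp (hconj p hp)
  have hFt : Inv (MulAut.conj t) F := by
    rintro _ ⟨x, hx, rfl⟩
    let e : T ≃* T :=
      { toFun := fun a => ⟨t * a * t, hconj a a.2⟩
        invFun := fun a => ⟨t * a * t, hconj a a.2⟩
        left_inv := fun a => Subtype.ext (by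
          calc t * (t * a * t) * t = (t * t) * a * (t * t) := by group
            _ = a := by rw [h.sq, one_mul, mul_one])
        right_inv := fun a => Subtype.ext (by
          calc t * (t * a * t) * t = (t * t) * a * (t * t) := by group
            _ = a := by rw [h.sq, one_mul, mul_one])
        map_mul' := fun a b => Subtype.ext (by
          show t * (a * b) * t = t * a * t * (t * b * t)
          calc t * ((a : G) * b) * t = t * a * (t * t) * b * t := by rw [h.sq]; group
            _ = t * a * t * (t * b * t) := by group) }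
    refine ⟨e x, ?_, by show t * (x : G) * t = t * x * t⁻¹; rw [h.inv_eq]⟩
    exact (characteristic_iff_map_eq.1 inferInstance e).le ⟨x, hx, rfl⟩
  obtain ⟨n, hn, hfix⟩ := exists_fixed_mul hFt (orderOf_conj_coprime h hFodd) (k := y) (by
    refine ⟨(⟨y, hyT⟩ : T)⁻¹ * ⟨t * y * t, hconj y hyT⟩, ?_, ?_⟩
    · rw [SetLike.mem_coe, ← QuotientGroup.eq_one_iff, ← QuotientGroup.mk'_apply, map_mul, map_inv,
        inv_mul_eq_one]
      have e1 : (⟨y, hyT⟩ : T) = ⟨p, hp⟩ * ⟨t * p * t, hconj p hp⟩ := rfl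
      have e2 : (⟨t * y * t, hconj y hyT⟩ : T) = ⟨t * p * t, hconj p hp⟩ * ⟨p, hp⟩ :=
        Subtype.ext (by
          show t * (p * (t * p * t)) * t = t * p * t * p
          calc t * (p * (t * p * t)) * t = t * p * t * p * (t * t) := by group
            _ = t * p * t * p := by rw [h.sq, mul_one])
      rw [e1, e2, map_mul, map_mul, hab]
    · show y⁻¹ * (t * y * t) = y⁻¹ * (t * y * t⁻¹)
      rw [h.inv_eq])
  have hyn : φ (y * n) = y * n := h.cent _ (by
    rw [MulAut.conj_apply, mul_inv_eq_iff_eq_mul] at hfix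
    exact hfix.symm)
  have hnT : n ∈ T := map_subtype_le _ hn
  obtain ⟨n', hn', e'⟩ := hn
  subst e'
  have hFi : φ (n' : G) ∈ F := by
    let e : T ≃* T := resAut hT
    exact ⟨e n', (characteristic_iff_map_eq.1 inferInstance e).le ⟨n', hn', rfl⟩, rfl⟩
  obtain ⟨n'', hn'', e''⟩ := hFi
  let P₁ : T := ⟨p⁻¹ * φ p, mul_mem (inv_mem hp) (hT p hp)⟩
  refine ⟨P₁ * ⟨t * (p⁻¹ * φ p) * t, hconj _ P₁.2⟩, ?_, rfl⟩
  rw [SetLike.mem_coe, ← QuotientGroup.eq_one_iff, ← QuotientGroup.mk'_apply, ← hπ]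
  have hY : (⟨y, hyT⟩ : T)⁻¹ * ⟨φ y, hT y hyT⟩ ∈ frattini T := by
    have e : (⟨y, hyT⟩ : T)⁻¹ * ⟨φ y, hT y hyT⟩ = n' * n''⁻¹ := Subtype.ext (by
      show y⁻¹ * φ y = (n' : G) * (n'' : G)⁻¹
      have h1 : φ y = y * (n' : G) * (φ (n' : G))⁻¹ := by
        rw [map_mul] at hyn
        exact eq_mul_inv_of_mul_eq hyn
      rw [h1, ← show (n'' : G) = φ (n' : G) from e'']
      group)
    rw [e]
    exact mul_mem hn' (inv_mem hn'')
  have hY' : π ((⟨y, hyT⟩ : T)⁻¹ * ⟨φ y, hT y hyT⟩) = 1 := (QuotientGroup.eq_one_iff _).2 hY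
  have hexp : (⟨y, hyT⟩ : T)⁻¹ * ⟨φ y, hT y hyT⟩ =
      (⟨t * p * t, hconj p hp⟩ : T)⁻¹ * P₁ * ⟨φ (t * p * t), hT _ (hconj p hp)⟩ := Subtype.ext (by
    show y⁻¹ * φ y = (t * p * t)⁻¹ * (p⁻¹ * φ p) * φ (t * p * t)
    rw [hy, map_mul]
    group)
  have hexp2 : (⟨t * (p⁻¹ * φ p) * t, hconj _ P₁.2⟩ : T) =
      (⟨t * p * t, hconj p hp⟩ : T)⁻¹ * ⟨φ (t * p * t), hT _ (hconj p hp)⟩ := Subtype.ext (by
    show t * (p⁻¹ * φ p) * t = (t * p * t)⁻¹ * φ (t * p * t)
    rw [map_mul, map_mul, h.fixed, mul_inv_rev, mul_inv_rev, h.inv_eq]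
    calc t * (p⁻¹ * φ p) * t = t * p⁻¹ * 1 * φ p * t := by group
      _ = t * (p⁻¹ * t) * (t * φ p * t) := by rw [← h.sq]; group)
  rw [hexp, map_mul, map_mul, hab _ P₁, mul_assoc, ← map_mul, ← hexp2] at hY'
  rw [map_mul]
  exact hY'

/-- Invariant `r`-subgroups `P = [P, φ]` of `U` are normalised by `t`. -/
theorem Hyp.mem_normalizer_of_invariant_pgroup (h : Hyp φ t) (htU : t ∈ normalizer (U : Set G))
    {r : ℕ} [Fact r.Prime] {P : Subgroup G} (hPU : P ≤ U) (hP : IsPGroup r P) (hPi : Inv φ P)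
    (hPP : mov φ P = P) : t ∈ normalizer (P : Set G) := by
  obtain ⟨S, hPS, hSi⟩ := exists_inv_sylow_ge hcop hU hPU hP hPi
  have htS := h.mem_normalizer_sylow hcop hU hodd hUU htU S hSi
  set R := (S : Subgroup U).map U.subtype with hR
  set T := P ⊔ MulAut.conj t • P with hT
  have hTR : T ≤ R := sup_le hPS (by
    rw [← Coprime.conj_smul_eq_self_of_mem htS]
    exact pointwise_smul_le_pointwise_smul_iff.2 hPS)
  have hTp : IsPGroup r T := (S.2.map _).to_le hTR
  have htT : t ∈ normalizer (T : Set G) := Coprime.mem_normalizer_of_conj_smul_eq (by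
    rw [hT, Subgroup.smul_sup, Coprime.conj_smul_smul, h.sq, map_one, one_smul, sup_comm])
  have hTi : Inv φ T := by
    have hle : T ≤ T.comap φ.toMonoidHom := by
      refine sup_le (fun x hx => mem_sup_left (hPi x hx)) fun x hx => mem_sup_right ?_
      rw [Coprime.mem_conj_smul_iff] at hx
      show φ x ∈ MulAut.conj t • P
      rw [Coprime.mem_conj_smul_iff]
      have := hPi _ hx
      rwa [map_mul, map_mul, map_inv, h.fixed] at this
    exact fun x hx => hle hx
  have hTU : T ≤ U := hTR.trans (map_subtype_le _)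
  have htop : P.subgroupOf T ⊔ frattini T = ⊤ := by
    apply Subgroup.map_injective T.subtype_injective
    rw [Subgroup.map_sup, map_subgroupOf_eq_of_le le_sup_left, ← MonoidHom.range_eq_map,
      T.range_subtype]
    refine le_antisymm (sup_le le_sup_left (map_subtype_le _)) (sup_le le_sup_left ?_)
    rintro _ ⟨x, hx, rfl⟩
    have hle : P ≤ (P ⊔ (frattini T).map T.subtype).comap (MulAut.conj t).toMonoidHom := by
      conv_lhs => rw [← hPP]
      rw [mov, closure_le]
      rintro _ ⟨p, hp, rfl⟩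
      show t * (p⁻¹ * φ p) * t⁻¹ ∈ P ⊔ (frattini T).map T.subtype
      have h1 := h.mul_conj_mem_frattini hcop hodd hTi hTU hTp htT (mem_sup_left hp : p ∈ T)
      have h2 := mul_mem (mem_sup_left (inv_mem (mul_mem (inv_mem hp) (hPi p hp))) :
        (p⁻¹ * φ p)⁻¹ ∈ P ⊔ (frattini T).map T.subtype) (mem_sup_right h1)
      rw [inv_mul_cancel_left] at h2
      rwa [h.inv_eq]
    exact hle hx
  have := frattini_nongenerating htop
  refine Coprime.mem_normalizer_of_conj_smul_eq (eq_of_le_of_card_ge ?_ ?_)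
  · intro x hx
    have hxT : x ∈ T := mem_sup_right hx
    have h1 : (⟨x, hxT⟩ : T) ∈ P.subgroupOf T := this ▸ mem_top _
    exact h1
  · rw [Coprime.card_conj_smul]

/-- Two commuting such involutions have product centralising `U = [U, φ]`. -/
theorem Hyp.commute_mul_of_mem_mov (h : Hyp φ t) {t' : G} (h' : Hyp φ t')
    (htt : Commute t t') (htU : t ∈ normalizer (U : Set G)) (ht'U : t' ∈ normalizer (U : Set G))
    {x : G} (hx : x ∈ U) : Commute (t * t') x := by
  suffices hle : mov φ U ≤ centralizer {t * t'} by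
    exact (mem_centralizer_singleton_iff.1 (hle (hUU.symm ▸ hx))).symm
  refine mov_le_of_invariant_pgroups hcop hU fun r hr P hPr hPU hPi => ?_
  haveI := Fact.mk hr
  set Q := mov φ P with hQ
  have hQi : Inv φ Q := inv_mov hPi
  have hQU : Q ≤ U := (mov_le hPi).trans hPU
  have hQp : IsPGroup r Q := hPr.to_le (mov_le hPi)
  have hQQ : mov φ Q = Q := mov_mov hcop hPi
  have htQ := h.mem_normalizer_of_invariant_pgroup hcop hU hodd hUU htU hQU hQp hQi hQQ
  have ht'Q := h'.mem_normalizer_of_invariant_pgroup hcop hU hodd hUU ht'U hQU hQp hQi hQQ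
  have hconj : ∀ {s : G}, s ∈ normalizer (Q : Set G) → ∀ y : Q, s * y * s⁻¹ ∈ Q :=
    fun hs y => (mem_normalizer_iff.1 hs y).1 y.2
  set w := t * t' with hw
  have hwQ : w ∈ normalizer (Q : Set G) := mul_mem htQ ht'Q
  have hw2 : w * w = 1 := by
    rw [hw, htt.symm.mul_mul_mul_comm, h.sq, h'.sq, one_mul]
  set π := QuotientGroup.mk' (frattini Q) with hπ
  let e : Q →* Q :=
    { toFun := fun y => ⟨w * y * w⁻¹, hconj hwQ y⟩
      map_one' := Subtype.ext (by simp)
      map_mul' := fun a b => Subtype.ext (by simp [mul_assoc]) }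
  have heq : (π.comp e).eqLocus π = ⊤ := by
    rw [eq_top_iff]
    intro y _
    have hle : Q ≤ ((π.comp e).eqLocus π).map Q.subtype := by
      conv_lhs => rw [← hQQ]
      rw [mov, closure_le]
      rintro _ ⟨p, hp, rfl⟩
      have hs : p⁻¹ * φ p ∈ Q := mul_mem (inv_mem hp) (hQi p hp)
      refine ⟨⟨_, hs⟩, ?_, rfl⟩
      show π (e ⟨_, hs⟩) = π ⟨_, hs⟩
      set s : Q := ⟨_, hs⟩ with hsdef
      have hmem : ∀ {a : G} (ha : Hyp φ a) (haQ : a ∈ normalizer (Q : Set G)),
          π s * π ⟨a * s * a⁻¹, hconj haQ s⟩ = 1 := by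
        intro a ha haQ
        obtain ⟨f, hf, hfe⟩ := ha.mul_conj_mem_frattini hcop hodd hQi hQU hQp haQ hp
        rw [← map_mul]
        refine (QuotientGroup.eq_one_iff _).2 ?_
        have : s * ⟨a * s * a⁻¹, hconj haQ s⟩ = f := Subtype.ext (by
          show (p⁻¹ * φ p) * (a * (p⁻¹ * φ p) * a⁻¹) = (f : G)
          rw [ha.inv_eq]
          exact hfe.symm)
        exact this.symm ▸ hf
      set s' : Q := ⟨t' * s * t'⁻¹, hconj ht'Q s⟩ with hs'
      have h1 : π s' = (π s)⁻¹ := eq_inv_of_mul_eq_one_right (hmem h' ht'Q)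
      have h2 : π ⟨t * s * t⁻¹, hconj htQ s⟩ = (π s)⁻¹ := eq_inv_of_mul_eq_one_right (hmem h htQ)
      let et : Q →* Q :=
        { toFun := fun y => ⟨t * y * t⁻¹, hconj htQ y⟩
          map_one' := Subtype.ext (by simp)
          map_mul' := fun a b => Subtype.ext (by simp [mul_assoc]) }
      have hes : e s = et s' := Subtype.ext (by
        show w * (s : G) * w⁻¹ = t * (t' * s * t'⁻¹) * t⁻¹
        rw [hw]; group)
      have hetF : (frattini Q).map et ≤ frattini Q := by
        let E : Q ≃* Q := MulEquiv.ofBijective et ((Finite.injective_iff_bijective).1 (fun a b hab => by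
          apply Subtype.ext
          have := congrArg Subtype.val hab
          exact mul_left_cancel (mul_right_cancel this)))
        exact (characteristic_iff_map_eq.1 inferInstance E).le
      have h3 : π (et s') = π ((et s)⁻¹) := by
        rw [← map_inv et, hπ, QuotientGroup.mk'_eq_mk']
        refine ⟨et (s'⁻¹ * s⁻¹), hetF ⟨_, ?_, rfl⟩, by rw [← map_mul, mul_inv_cancel_left]⟩
        rw [SetLike.mem_coe, ← QuotientGroup.eq_one_iff, ← QuotientGroup.mk'_apply, map_mul,
          map_inv, map_inv, ← hπ, h1, inv_inv, mul_inv_cancel]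
      rw [hes, h3, map_inv, show π (et s) = (π s)⁻¹ from h2, inv_inv]
    obtain ⟨y', hy', e'⟩ := hle y.2
    exact Subtype.ext e' ▸ hy'
  set C := (centralizer {w}).subgroupOf Q with hC
  have hsup : C ⊔ frattini Q = ⊤ := by
    rw [eq_top_iff]
    intro y _
    let E : Q ≃* Q := MulEquiv.ofBijective e ((Finite.injective_iff_bijective).1 (fun a b hab => by
      apply Subtype.ext
      exact mul_left_cancel (mul_right_cancel (congrArg Subtype.val hab))))
    have hEi : Inv (MulAut.conj w) ((frattini Q).map Q.subtype) := by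
      rintro _ ⟨a, ha, rfl⟩
      exact ⟨E a, (characteristic_iff_map_eq.1 inferInstance E).le ⟨a, ha, rfl⟩, rfl⟩
    have hodd' : Odd (Nat.card ((frattini Q).map Q.subtype)) :=
      Odd.of_dvd_nat hodd (card_dvd_of_le ((map_subtype_le _).trans hQU))
    have hy : π (e y) = π y := by
      have : y ∈ (π.comp e).eqLocus π := heq ▸ mem_top y
      exact this
    have hcw : (orderOf (MulAut.conj w)).Coprime (Nat.card ((frattini Q).map Q.subtype)) := by
      refine (Nat.coprime_two_left.2 hodd').coprime_dvd_left ?_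
      refine (orderOf_map_dvd _ _).trans (orderOf_dvd_of_pow_eq_one ?_)
      rw [pow_two, hw2]
    obtain ⟨n, ⟨n', hn', rfl⟩, hfix⟩ := exists_fixed_mul hEi hcw (k := (y : G))
      ⟨y⁻¹ * e y, by
        rw [SetLike.mem_coe, ← QuotientGroup.eq_one_iff, ← QuotientGroup.mk'_apply, map_mul,
          map_inv, ← hπ, hy, inv_mul_cancel], rfl⟩
    have hmem : y * n' ∈ C := by
      rw [hC, mem_subgroupOf, mem_centralizer_singleton_iff]
      rw [MulAut.conj_apply, mul_inv_eq_iff_eq_mul] at hfix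
      exact hfix.symm
    have := mul_mem (mem_sup_left hmem : _ ∈ C ⊔ frattini Q) (mem_sup_right (inv_mem hn'))
    rwa [mul_inv_cancel_right] at this
  exact subgroupOf_eq_top.1 (frattini_nongenerating hsup)

end Odd

end Coprime

end Cfsg.Agent.CoprimeInvolution
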