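import Cfsg.Agent.Lib.CoprimeInvolution.Involution
import Cfsg.Agent.Lib.PCore.Basic
import Cfsg.Agent.Lib.ZStar.Main

/-!
# A coprime automorphism fixing an involution centraliser elementwise

`mov_le_oddCore`: if `φ` has order prime to `|G|` and fixes `C(t)` elementwise for an involution
`t`, then `[G, φ] ≤ O(G)`.
-/

set_option autoImplicit false
set_option linter.style.haveILetI false

namespace Cfsg.Agent.CoprimeInvolution

open Subgroup Cfsg
open scoped Pointwise

universe u

variable {G : Type u} [Group G] [Finite G] {φ : MulAut G} {t : G}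

theorem mem_of_odd_card_of_sq {N : Subgroup G} (hN : Odd (Nat.card N)) {x : G} (hx : x ∈ N)
    (h2 : x * x = 1) : x = 1 := by
  obtain ⟨i, hi⟩ := hN
  have h1 : x ^ Nat.card N = 1 := congrArg Subtype.val (pow_card_eq_one' (x := (⟨x, hx⟩ : N)))
  rwa [hi, pow_succ, pow_mul, pow_two, h2, one_pow, one_mul] at h1

/-- The core step. -/
theorem Hyp.mov_eq_bot_of_reduced (h : Hyp φ t) (hcop : (orderOf φ).Coprime (Nat.card G))
    (hO : oddCore G = ⊥) (hZ : ∀ w : G, w * w = 1 → w ∈ center G → w = 1)
    (IH : ∀ M : Subgroup G, M ≠ ⊤ → Inv φ M → ∀ j ∈ M, Hyp φ j → Odd (Nat.card (mov φ M))) :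
    mov φ ⊤ = ⊥ := by
  -- an edge
  obtain ⟨k₀, hk₀, hk₀c, hk₀ne⟩ : ∃ k, φ k = k ∧ Commute t (k⁻¹ * t * k) ∧ k⁻¹ * t * k ≠ t := by
    by_contra hcon
    push Not at hcon
    have hiso : IsIsolatedInvolution t := by
      refine ⟨h.orderOf_eq, fun g hg => ?_⟩
      have hc : Commute t ((g⁻¹)⁻¹ * t * g⁻¹) := by rwa [inv_inv]
      have := hcon g⁻¹ (h.eq_of_conj_fixed hcop (h.cent _ hc.symm)) hc
      rwa [inv_inv] at this
    exact h.ne (hZ t h.sq (ZStar.mem_center_of_oddCore_eq_bot (ZStar.inZStar hiso) hO))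
  -- products of commuting fixed conjugates centralise all `g⁻¹ φ g`
  have key : ∀ k₁ k₂ : G, φ k₁ = k₁ → φ k₂ = k₂ →
      Commute (k₁⁻¹ * t * k₁) (k₂⁻¹ * t * k₂) →
      ∀ g : G, Commute ((k₁⁻¹ * t * k₁) * (k₂⁻¹ * t * k₂)) (g⁻¹ * φ g) := by
    intro k₁ k₂ hk₁ hk₂ hc g
    by_cases hA : ∃ l, φ l = l ∧ ∀ k, φ k = k →
        Odd (orderOf ((l⁻¹ * t * l) * ((k * g)⁻¹ * (l⁻¹ * t * l) * (k * g))))
    · obtain ⟨l, hl, hodd⟩ := hA
      have h1 := (h.conj hl).commute_mul_of_odd hcop g hodd (k := l⁻¹ * k₁) (l := l⁻¹ * k₂)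
        (by rw [map_mul, map_inv, hl, hk₁]) (by rw [map_mul, map_inv, hl, hk₂])
      have e : ∀ x : G, (l⁻¹ * x)⁻¹ * (l⁻¹ * t * l) * (l⁻¹ * x) = x⁻¹ * t * x := fun x => by group
      rwa [e, e] at h1
    push Not at hA
    have hedge : ∀ l, φ l = l → ∃ w : G, w ∈ Dsub φ g ∧ w ≠ 1 ∧ w * w = 1 ∧
        Commute (l⁻¹ * t * l) w := by
      intro l hl
      obtain ⟨k, hk, hke⟩ := hA l hl
      have hi := h.conj hl
      obtain ⟨w, hw2, hw1, hwi, hwb, -⟩ := hi.exists_central hke
      refine ⟨w, mem_Dsub.2 ⟨hi.cent w hwi, ?_⟩, hw1, hw2, hwi.symm⟩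
      have h1 : φ (k * g * w * (k * g)⁻¹) = k * g * w * (k * g)⁻¹ := hi.cent _ (by
        show k * g * w * (k * g)⁻¹ * (l⁻¹ * t * l) = l⁻¹ * t * l * (k * g * w * (k * g)⁻¹)
        calc k * g * w * (k * g)⁻¹ * (l⁻¹ * t * l)
            = k * g * (w * ((k * g)⁻¹ * (l⁻¹ * t * l) * (k * g))) * (k * g)⁻¹ := by group
          _ = k * g * ((k * g)⁻¹ * (l⁻¹ * t * l) * (k * g) * w) * (k * g)⁻¹ := by rw [hwb.eq]
          _ = l⁻¹ * t * l * (k * g * w * (k * g)⁻¹) := by group)
      have e : g * w * g⁻¹ = k⁻¹ * (k * g * w * (k * g)⁻¹) * k := by group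
      rw [e, map_mul, map_mul, map_inv, hk, h1]
    set C := centralizer (Dsub φ g : Set G) with hCdef
    have hCi : Inv φ C := inv_centralizer_of_fixed fun d hd => (mem_Dsub.1 hd).1
    have hσ : g⁻¹ * φ g ∈ mov φ C :=
      mov_mem_of_mem hcop hCi (mem_centralizer_iff.2 fun d hd => (commute_of_mem_Dsub hd).eq)
    have hsuff : mov φ (mov φ C) ≤ centralizer {k₁⁻¹ * t * k₁ * (k₂⁻¹ * t * k₂)} := by
      refine mov_le_of_invariant_pgroups hcop (inv_mov hCi) fun r hr P hPr hPU hPi => ?_
      haveI := Fact.mk hr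
      set P' := mov φ P with hP'
      have hP'i : Inv φ P' := inv_mov hPi
      have hP'p : IsPGroup r P' := hPr.to_le (mov_le hPi)
      have hP'P' : mov φ P' = P' := mov_mov hcop hPi
      -- `P'` is normalised by every fixed conjugate of `t`
      have hnorm : ∀ l, φ l = l →
          Odd (Nat.card P') ∧ l⁻¹ * t * l ∈ normalizer (P' : Set G) := by
        intro l hl
        obtain ⟨w, hwD, hw1, hw2, hwi⟩ := hedge l hl
        have hCwi : Inv φ (centralizer ({w} : Set G)) :=
          inv_centralizer_of_fixed (by rintro _ rfl; exact (mem_Dsub.1 hwD).1)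
        have hne : centralizer ({w} : Set G) ≠ ⊤ := fun e => hw1 (hZ w hw2 (by
          have := centralizer_eq_top_iff_subset.1 e
          simpa using this))
        have hiw : l⁻¹ * t * l ∈ centralizer ({w} : Set G) :=
          mem_centralizer_singleton_iff.2 hwi.eq
        have hodd := IH _ hne hCwi _ hiw (h.conj hl)
        have hPQ : P' ≤ mov φ (centralizer ({w} : Set G)) :=
          (mov_le hPi).trans (hPU.trans (mov_mono (centralizer_le (Set.singleton_subset_iff.2 hwD))))
        exact ⟨Odd.of_dvd_nat hodd (card_dvd_of_le hPQ),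
          (h.conj hl).mem_normalizer_of_invariant_pgroup hcop (inv_mov hCwi) hodd
            (mov_mov hcop hCwi) (le_normalizer_mov _ hiw) hPQ hP'p hP'i hP'P'⟩
      by_cases hbot : P' = ⊥
      · rw [hbot]; exact bot_le
      have hNt : normalizer (P' : Set G) ≠ ⊤ := fun e => hbot (by
        haveI : P'.Normal := normalizer_eq_top_iff.1 e
        rw [eq_bot_iff, ← hO]
        exact PCore.le_oddCore (hnorm 1 (map_one φ)).1)
      have hNi := inv_normalizer hcop hP'i
      have hodd := IH _ hNt hNi _ (hnorm k₁ hk₁).2 (h.conj hk₁)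
      intro x hx
      refine mem_centralizer_singleton_iff.2 ((h.conj hk₁).commute_mul_of_mem_mov hcop
        (inv_mov hNi) hodd (mov_mov hcop hNi) (h.conj hk₂) hc
        (le_normalizer_mov _ (hnorm k₁ hk₁).2) (le_normalizer_mov _ (hnorm k₂ hk₂).2) ?_).eq.symm
      rw [← hP'P'] at hx
      exact mov_mono le_normalizer hx
    rw [mov_mov hcop hCi] at hsuff
    exact (mem_centralizer_singleton_iff.1 (hsuff hσ)).symm
  -- conclusion
  set w := t * (k₀⁻¹ * t * k₀) with hw
  have hw1 : w ≠ 1 := fun e => hk₀ne (by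
    have := congrArg (t * ·) e
    simpa [hw, ← mul_assoc, h.sq] using this)
  have hw2 : w * w = 1 := by
    rw [hw, hk₀c.symm.mul_mul_mul_comm, h.sq, (h.conj hk₀).sq, one_mul]
  have hG1 : mov φ ⊤ ≤ centralizer {w} := by
    rw [mov, closure_le]
    rintro _ ⟨g, -, rfl⟩
    have := key 1 k₀ (map_one φ) hk₀ (by simpa using hk₀c) g
    simp only [inv_one, one_mul, mul_one] at this
    exact mem_centralizer_singleton_iff.2 this.eq.symm
  have htz : zpowers t ≤ normalizer (mov φ (⊤ : Subgroup G) : Set G) :=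
    fun x _ => le_normalizer_mov _ (mem_top x)
  set H := zpowers t ⊔ mov φ ⊤ with hH
  by_cases hHtop : H = ⊤
  · exfalso
    refine hw1 (hZ w hw2 (mem_center_iff.2 fun x => ?_))
    obtain ⟨a, ha, b, hb, rfl⟩ :=
      (Coprime.mem_sup_iff_of_le_normalizer htz).1 (show x ∈ H from hHtop ▸ mem_top x)
    obtain ⟨n, rfl⟩ := mem_zpowers_iff.1 ha
    have h1 : Commute t w := (Commute.refl t).mul_right hk₀c
    have h2 : Commute b w := mem_centralizer_singleton_iff.1 (hG1 hb)
    exact ((h1.zpow_left n).mul_left h2).eq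
  · have hHi : Inv φ H := by
      have hle : H ≤ H.comap φ.toMonoidHom := by
        refine sup_le (zpowers_le.2 ?_) fun x hx => mem_sup_right (inv_mov inv_top x hx)
        show φ t ∈ H
        rw [h.fixed]
        exact mem_sup_left (mem_zpowers t)
      exact fun x hx => hle hx
    have hodd := IH H hHtop hHi t (mem_sup_left (mem_zpowers t)) h
    have hle : mov φ ⊤ ≤ mov φ H :=
      (mov_mov hcop inv_top).ge.trans (mov_mono le_sup_right)
    haveI : (mov φ (⊤ : Subgroup G)).Normal :=
      normalizer_eq_top_iff.1 (top_le_iff.1 (le_normalizer_mov ⊤))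
    rw [eq_bot_iff, ← hO]
    exact PCore.le_oddCore (Odd.of_dvd_nat hodd (card_dvd_of_le hle))

theorem mov_le_oddCore_aux : ∀ (n : ℕ) (G : Type u) [Group G] [Finite G] (φ : MulAut G) (t : G),
    Nat.card G = n → (orderOf φ).Coprime (Nat.card G) → Hyp φ t → mov φ ⊤ ≤ oddCore G := by
  intro n
  induction n using Nat.strong_induction_on with
  | _ n ih =>
    intro G _ _ φ t hn hcop h
    subst hn
    have IH : ∀ M : Subgroup G, M ≠ ⊤ → Inv φ M → ∀ j ∈ M, Hyp φ j → Odd (Nat.card (mov φ M)) := by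
      intro M hM hMi j hj hjh
      have hlt : Nat.card M < Nat.card G := lt_of_le_of_ne (card_le_card_group M)
        fun e => hM (eq_top_of_card_eq M e)
      have hle := ih _ hlt M (resAut hMi) ⟨j, hj⟩ rfl (coprime_resAut hcop hMi)
        ⟨Subtype.ext hjh.sq, fun e => hjh.ne (congrArg Subtype.val e),
          fun x hx => Subtype.ext (hjh.cent x (congrArg Subtype.val hx))⟩
      rw [← map_mov_resAut_top hMi, card_map_of_injective M.subtype_injective]
      exact Odd.of_dvd_nat PCore.odd_card_oddCore (card_dvd_of_le hle)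
    -- quotient automorphisms
    have hquot : ∀ (N : Subgroup G) [N.Normal], N.map φ.toMonoidHom = N → N ≠ ⊥ →
        (∀ x : G, x⁻¹ * (t * x * t⁻¹) ∈ N → x⁻¹ * φ x ∈ N) → t ∉ N →
        ∀ g : G, ((g⁻¹ * φ g : G) : G ⧸ N) ∈ oddCore (G ⧸ N) := by
      intro N _ hNφ hNne hNcent htN g
      let ψ : MulAut (G ⧸ N) := QuotientGroup.congr N N φ hNφ
      have hpow : ∀ (k : ℕ) (x : G), (ψ ^ k) (x : G ⧸ N) = (((φ ^ k) x : G) : G ⧸ N) := by
        intro k
        induction k with
        | zero => intro x; rfl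
        | succ k ih =>
          intro x
          rw [pow_succ, MulAut.mul_apply, pow_succ, MulAut.mul_apply]
          exact ih (φ x)
      have hψ : (orderOf ψ).Coprime (Nat.card (G ⧸ N)) := by
        refine (hcop.coprime_dvd_right N.card_quotient_dvd_card).coprime_dvd_left
          (orderOf_dvd_of_pow_eq_one (MulEquiv.ext fun x => ?_))
        obtain ⟨x, rfl⟩ := QuotientGroup.mk_surjective x
        rw [hpow, pow_orderOf_eq_one]
        rfl
      have hlt : Nat.card (G ⧸ N) < Nat.card G := by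
        have h1 := N.card_eq_card_quotient_mul_card_subgroup
        have h2 : 1 < Nat.card N := N.one_lt_card_iff_ne_bot.2 hNne
        have h3 : 0 < Nat.card (G ⧸ N) := Nat.card_pos
        rw [h1]
        exact lt_mul_of_one_lt_right h3 h2
      have hH : Hyp ψ (t : G ⧸ N) := by
        refine ⟨by rw [← QuotientGroup.mk_mul, h.sq]; rfl,
          fun e => htN ((QuotientGroup.eq_one_iff t).1 e), fun x hx => ?_⟩
        obtain ⟨x, rfl⟩ := QuotientGroup.mk_surjective x
        show ((φ x : G) : G ⧸ N) = x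
        refine (QuotientGroup.eq.2 (hNcent x ?_)).symm
        rw [← QuotientGroup.eq_one_iff, QuotientGroup.mk_mul, QuotientGroup.mk_mul,
          QuotientGroup.mk_mul, QuotientGroup.mk_inv, QuotientGroup.mk_inv, ← hx.eq]
        group
      have := ih _ hlt (G ⧸ N) ψ t rfl hψ hH (mem_mov (mem_top (g : G ⧸ N)))
      exact this
    rw [mov, closure_le]
    rintro _ ⟨g, -, rfl⟩
    by_cases hO : oddCore G = ⊥
    swap
    · have hOodd : Odd (Nat.card (oddCore G)) := PCore.odd_card_oddCore
      have h1 := hquot (oddCore G) (characteristic_iff_map_eq.1 inferInstance φ) hO (fun x hx => by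
        obtain ⟨k, hk, hfix⟩ := exists_fixed_mul (φ := MulAut.conj t)
          (fun y hy => (inferInstance : (oddCore G).Normal).conj_mem y hy t)
          (orderOf_conj_coprime h hOodd) hx
        have hxk : φ (x * k) = x * k := h.cent _ (by
          rw [MulAut.conj_apply, mul_inv_eq_iff_eq_mul] at hfix
          exact hfix.symm)
        rw [map_mul] at hxk
        have hφk : φ k ∈ oddCore G :=
          (characteristic_iff_map_eq.1 inferInstance φ).le ⟨k, hk, rfl⟩
        have e : x⁻¹ * φ x = k * (φ k)⁻¹ := by rw [eq_mul_inv_of_mul_eq hxk]; group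
        rw [e]
        exact mul_mem hk (inv_mem hφk))
        (fun ht => h.ne (mem_of_odd_card_of_sq hOodd ht h.sq)) g
      have hbot : oddCore (G ⧸ oddCore G) = ⊥ := PCore.pPrimeCore_quotient_self_eq_bot
      rw [hbot, mem_bot, QuotientGroup.eq_one_iff] at h1
      exact h1
    suffices hfix : φ g = g by simp [hfix]
    by_cases hZ : ∀ w : G, w * w = 1 → w ∈ center G → w = 1
    · exact (mov_eq_bot_iff.1 (h.mov_eq_bot_of_reduced hcop hO hZ IH)) g (mem_top g)
    push Not at hZ
    obtain ⟨w, hw2, hwZ, hw1⟩ := hZ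
    by_cases hwt : w = t
    · subst hwt
      exact h.cent g (mem_center_iff.1 hwZ g)
    have hwc : ∀ x : G, Commute x w := fun x => mem_center_iff.1 hwZ x
    set N := zpowers w with hN
    have hNle : N ≤ center G := zpowers_le.2 hwZ
    haveI : N.Normal := ⟨fun x hx y => by
      rw [mem_center_iff.1 (hNle hx) y, mul_inv_cancel_right]; exact hx⟩
    have hwφ : φ w = w := h.cent w (hwc t).symm
    have hmemN : ∀ x ∈ N, x = 1 ∨ x = w := by
      intro x hx
      obtain ⟨i, rfl⟩ := mem_zpowers_iff.1 hx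
      rcases Int.even_or_odd i with ⟨j, rfl⟩ | ⟨j, rfl⟩
      · left; rw [← two_mul, zpow_mul, zpow_two, hw2, one_zpow]
      · right; rw [zpow_add, zpow_mul, zpow_two, hw2, one_zpow, one_mul, zpow_one]
    have htN : t ∉ N := fun ht => (hmemN t ht).elim h.ne (fun e => hwt e.symm)
    have hNfix : ∀ x ∈ N, φ x = x := fun x hx => by
      rcases hmemN x hx with rfl | rfl
      · exact map_one φ
      · exact hwφ
    have hNφ : N.map φ.toMonoidHom = N := by
      rw [hN, MonoidHom.map_zpowers]
      show zpowers (φ w) = _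
      rw [hwφ]
    have h1 : ∀ x : G, x⁻¹ * φ x ∈ (oddCore (G ⧸ N)).comap (QuotientGroup.mk' N) :=
      hquot N hNφ (fun e => hw1 (zpowers_eq_bot.1 e)) (fun x hx => by
        have hxx : φ (x⁻¹ * t * x) = x⁻¹ * t * x := by
          have hc : Commute (x⁻¹ * t * x) t := by
            have hm := hmemN _ hx
            have e : x⁻¹ * t * x = (x⁻¹ * (t * x * t⁻¹)) * t := by group
            rw [e]
            rcases hm with e' | e' <;> rw [e']
            · exact (Commute.one_left t).mul_left (Commute.refl t)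
            · exact (hwc t).symm.mul_left (Commute.refl t)
          exact h.cent _ hc
        rw [h.eq_of_conj_fixed hcop hxx, inv_mul_cancel]
        exact one_mem N) htN
    set N₁ := (oddCore (G ⧸ N)).comap (QuotientGroup.mk' N) with hN₁
    have hNN₁ : N ≤ N₁ := fun x hx => by
      show (x : G ⧸ N) ∈ oddCore (G ⧸ N)
      rw [(QuotientGroup.eq_one_iff x).2 hx]
      exact one_mem _
    have hidx : (N.subgroupOf N₁).index = Nat.card (oddCore (G ⧸ N)) := by
      show N.relIndex N₁ = _
      have e : N = (⊥ : Subgroup (G ⧸ N)).comap (QuotientGroup.mk' N) := by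
        rw [MonoidHom.comap_bot, QuotientGroup.ker_mk']
      conv_lhs => rw [e, hN₁, relIndex_comap,
        Subgroup.map_comap_eq_self_of_surjective (QuotientGroup.mk'_surjective N)]
      exact relIndex_bot_left _
    have hNcard : Nat.card (N.subgroupOf N₁) = 2 := by
      rw [Coprime.card_subgroupOf hNN₁, hN, Nat.card_zpowers]
      exact orderOf_eq_prime (by rw [pow_two, hw2]) hw1
    obtain ⟨Cc, hCc⟩ := exists_right_complement'_of_coprime (N := N.subgroupOf N₁) (by
      rw [hNcard, hidx]
      exact Nat.coprime_two_left.2 PCore.odd_card_oddCore)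
    have hCodd : Odd (Nat.card Cc) := by
      rw [← hCc.symm.index_eq_card, hidx]
      exact PCore.odd_card_oddCore
    haveI hCn : Cc.Normal := by
      rw [← normalizer_eq_top_iff, eq_top_iff, ← hCc.sup_eq_top]
      refine sup_le (fun x hx => ?_) le_normalizer
      rw [mem_normalizer_iff]
      intro y
      have e : x * y * x⁻¹ = y := Subtype.ext (by
        push_cast
        have hxy : (y : G) * (x : G) = x * y := mem_center_iff.1 (hNle hx) (y : G)
        rw [← hxy, mul_inv_cancel_right])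
      rw [e]
    have hCbot : Cc = ⊥ := by
      have h2 : oddCore ↥N₁ = ⊥ := by
        have hn : ((oddCore ↥N₁).map N₁.subtype).Normal := inferInstance
        have h3 : (oddCore ↥N₁).map N₁.subtype ≤ oddCore G := PCore.le_oddCore (by
          rw [card_map_of_injective N₁.subtype_injective]
          exact PCore.odd_card_oddCore)
        rw [hO, le_bot_iff, map_eq_bot_iff_of_injective _ N₁.subtype_injective] at h3
        exact h3
      rw [eq_bot_iff, ← h2]
      exact PCore.le_oddCore hCodd
    have htop : N.subgroupOf N₁ = ⊤ := by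
      have := hCc.sup_eq_top
      rwa [hCbot, sup_bot_eq] at this
    have hgN : g⁻¹ * φ g ∈ N := (subgroupOf_eq_top.1 htop) (h1 g)
    refine fixed_of_apply_eq_mul hcop (c := g⁻¹ * φ g) (hNfix _ hgN) ?_
    rw [← mem_center_iff.1 (hNle hgN) g, mul_inv_cancel_left]

/-- **A coprime automorphism fixing an involution centraliser elementwise acts trivially modulo
`O(G)`.** -/
theorem mov_le_oddCore (hcop : (orderOf φ).Coprime (Nat.card G)) (h : Hyp φ t) :
    mov φ ⊤ ≤ oddCore G :=
  mov_le_oddCore_aux _ G φ t rfl hcop h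

end Cfsg.Agent.CoprimeInvolution
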